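import Mathlib
import Groth.Prelude.Def_ProCons

/-!
Topological theory of pro- and ind-constructible sets via the constructible topology.
-/

set_option autoImplicit false

open Topology TopologicalSpace Set

namespace Groth.Agent.ProConsLib

variable {X Y : Type*} [TopologicalSpace X] [TopologicalSpace Y]

lemma isLocallyConstructible_compl {s : Set X} (hs : IsLocallyConstructible s) :
    IsLocallyConstructible sᶜ := by
  intro x
  obtain ⟨U, hU, hU', h⟩ := hs x
  exact ⟨U, hU, hU', by rw [preimage_compl]; exact h.compl⟩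

lemma isProConstructible_compl_iff {E : Set X} :
    ProCons.IsProConstructible Eᶜ ↔ ProCons.IsIndConstructible E := by
  constructor
  · intro h x
    obtain ⟨U, hU, hx, S, hS, he⟩ := h x
    refine ⟨U, hU, hx, compl '' S, ?_, ?_⟩
    · rintro _ ⟨T, hT, rfl⟩
      exact isLocallyConstructible_compl (hS T hT)
    · rw [← compl_compl (Subtype.val ⁻¹' E), ← preimage_compl, he, compl_sInter]
  · intro h x
    obtain ⟨U, hU, hx, S, hS, he⟩ := h x
    refine ⟨U, hU, hx, compl '' S, ?_, ?_⟩
    · rintro _ ⟨T, hT, rfl⟩
      exact isLocallyConstructible_compl (hS T hT)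
    · rw [preimage_compl, he, compl_sUnion]

lemma isIndConstructible_compl_iff {E : Set X} :
    ProCons.IsIndConstructible Eᶜ ↔ ProCons.IsProConstructible E := by
  rw [← isProConstructible_compl_iff, compl_compl]

/-- Pro-constructibility is preserved by preimages under open embeddings. -/
lemma isProConstructible_preimage_of_isOpenEmbedding {f : X → Y} (hf : IsOpenEmbedding f) {E : Set Y}
    (h : ProCons.IsProConstructible E) : ProCons.IsProConstructible (f ⁻¹' E) := by
  intro x
  obtain ⟨U, hU, hx, S, hS, he⟩ := h (f x)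
  refine ⟨f ⁻¹' U, hU.preimage hf.continuous, hx, (preimage (U.restrictPreimage f)) '' S, ?_, ?_⟩
  · rintro _ ⟨T, hT, rfl⟩
    exact (hS T hT).preimage_of_isOpenEmbedding (hf.restrictPreimage U)
  · rw [sInter_image, ← preimage_iInter₂, ← sInter_eq_biInter, ← he]
    rfl

/-- Pro-constructibility is local. -/
lemma isProConstructible_of_forall_exists {E : Set X}
    (h : ∀ x, ∃ U : Set X, IsOpen U ∧ x ∈ U ∧ ProCons.IsProConstructible (Subtype.val ⁻¹' E : Set U)) :
    ProCons.IsProConstructible E := by
  intro x
  obtain ⟨U, hU, hx, hE⟩ := h x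
  obtain ⟨W, hW, hxW, S, hS, he⟩ := hE ⟨x, hx⟩
  let j : W → X := fun w => w.1.1
  have hj : IsOpenEmbedding j := hU.isOpenEmbedding_subtypeVal.comp hW.isOpenEmbedding_subtypeVal
  let e : W ≃ₜ range j := hj.isEmbedding.toHomeomorph
  refine ⟨range j, hj.isOpen_range, ⟨⟨⟨x, hx⟩, hxW⟩, rfl⟩, (preimage e.symm) '' S, ?_, ?_⟩
  · rintro _ ⟨T, hT, rfl⟩
    exact (hS T hT).preimage_of_isOpenEmbedding e.symm.isOpenEmbedding
  · rw [sInter_image, ← preimage_iInter₂, ← sInter_eq_biInter, ← he]
    ext ⟨y, hy⟩
    have : (j (e.symm ⟨y, hy⟩) : X) = y := congrArg Subtype.val (e.apply_symm_apply ⟨y, hy⟩)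
    show y ∈ E ↔ j (e.symm ⟨y, hy⟩) ∈ E
    rw [this]

/-- Ind-constructibility is preserved by preimages under open embeddings. -/
lemma isIndConstructible_preimage_of_isOpenEmbedding {f : X → Y} (hf : IsOpenEmbedding f) {E : Set Y}
    (h : ProCons.IsIndConstructible E) : ProCons.IsIndConstructible (f ⁻¹' E) := by
  rw [← isProConstructible_compl_iff, ← preimage_compl]
  exact isProConstructible_preimage_of_isOpenEmbedding hf (isProConstructible_compl_iff.mpr h)

/-- Ind-constructibility is local. -/
lemma isIndConstructible_of_forall_exists {E : Set X}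
    (h : ∀ x, ∃ U : Set X, IsOpen U ∧ x ∈ U ∧ ProCons.IsIndConstructible (Subtype.val ⁻¹' E : Set U)) :
    ProCons.IsIndConstructible E := by
  rw [← isProConstructible_compl_iff]
  refine isProConstructible_of_forall_exists fun x => ?_
  obtain ⟨U, hU, hx, hE⟩ := h x
  exact ⟨U, hU, hx, isProConstructible_compl_iff.mpr hE⟩

/-- A locally constructible set is pro-constructible. -/
lemma isProConstructible_of_isLocallyConstructible {E : Set X} (h : IsLocallyConstructible E) :
    ProCons.IsProConstructible E := fun _ =>
  ⟨univ, isOpen_univ, mem_univ _, {Subtype.val ⁻¹' E}, fun T hT => by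
    rw [mem_singleton_iff.mp hT]
    exact h.preimage_of_isOpenEmbedding isOpen_univ.isOpenEmbedding_subtypeVal, (sInter_singleton _).symm⟩

/-- A locally constructible set is ind-constructible. -/
lemma isIndConstructible_of_isLocallyConstructible {E : Set X} (h : IsLocallyConstructible E) :
    ProCons.IsIndConstructible E :=
  isProConstructible_compl_iff.mp (isProConstructible_of_isLocallyConstructible (isLocallyConstructible_compl h))

section Spectral

variable [CompactSpace X] [QuasiSeparatedSpace X]

lemma isClopen_cons_of_isConstructible {s : Set X} (hs : IsConstructible s) :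
    @IsClopen X (constructibleTopology X) s := by
  induction hs using IsConstructible.empty_union_induction with
  | open_retrocompact U hU hU' =>
    have h1 : IsOpen[constructibleTopology X] U := hU'.isCompact.isOpen_constructibleTopology_of_isOpen hU
    have h2 : IsOpen[constructibleTopology X] Uᶜ :=
      IsCompact.isOpen_constructibleTopology_of_isClosed (by simpa using hU'.isCompact) hU.isClosed_compl
    exact ⟨@IsClosed.mk X (constructibleTopology X) U h2, h1⟩
  | union s _ t _ hs ht => exact @IsClopen.union _ (constructibleTopology X) _ _ hs ht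
  | compl s _ hs => exact @IsClopen.compl _ (constructibleTopology X) _ hs

lemma isConstructible_of_mem_subbasis {s : Set X} (hs : s ∈ constructibleTopologySubbasis X) :
    IsConstructible s := by
  rcases hs with ⟨ho, hc⟩ | ⟨ho, hc⟩
  · exact hc.isConstructible ho
  · rw [← isConstructible_compl]
    exact hc.isConstructible ho.isOpen_compl

/-- The constructible subsets form a basis of the constructible topology. -/
lemma exists_isConstructible_subset {s : Set X} (hs : IsOpen[constructibleTopology X] s) {x : X}
    (hx : x ∈ s) : ∃ C, IsConstructible C ∧ x ∈ C ∧ C ⊆ s := by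
  obtain ⟨v, ⟨F, ⟨hF, hFs⟩, rfl⟩, hxv, hvs⟩ :=
    @IsTopologicalBasis.exists_subset_of_mem_open X (constructibleTopology X) _
      (@isTopologicalBasis_of_subbasis X (constructibleTopology X) _ rfl) x s hx hs
  exact ⟨⋂₀ F, IsConstructible.sInter hF fun t ht => isConstructible_of_mem_subbasis (hFs ht), hxv, hvs⟩

/-- Closed sets of the constructible topology are intersections of constructible sets. -/
lemma eq_sInter_of_isClosed_cons {s : Set X} (hs : IsClosed[constructibleTopology X] s) :
    s = ⋂₀ {C | IsConstructible C ∧ s ⊆ C} := by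
  refine subset_antisymm (subset_sInter fun C hC => hC.2) fun x hx => ?_
  by_contra hxs
  obtain ⟨C, hC, hxC, hCs⟩ :=
    exists_isConstructible_subset (@IsClosed.isOpen_compl _ (constructibleTopology X) _ hs) hxs
  exact hx Cᶜ ⟨hC.compl, subset_compl_comm.mp hCs⟩ hxC

/-- A map pulling constructible sets back to constructible sets is continuous. -/
lemma continuous_cons [CompactSpace Y] [QuasiSeparatedSpace Y] {f : Y → X}
    (hf : ∀ s, IsConstructible s → IsConstructible (f ⁻¹' s)) :
    Continuous[constructibleTopology Y, constructibleTopology X] f :=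
  continuous_generateFrom_iff.mpr fun s hs =>
    (isClopen_cons_of_isConstructible (hf s (isConstructible_of_mem_subbasis hs))).2

variable [QuasiSober X] [PrespectralSpace X]

lemma compactSpace_cons : @CompactSpace X (constructibleTopology X) := by
  have h := (isCompact_univ (X := WithConstructibleTopology X))
  have hc : Continuous[_, constructibleTopology X]
      (WithTopology.ofTopology : WithConstructibleTopology X → X) :=
    WithTopology.continuous_ofTopology _
  refine @CompactSpace.mk X (constructibleTopology X) ?_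
  have h2 := @IsCompact.image (WithConstructibleTopology X) X _ (constructibleTopology X) univ _ h hc
  rwa [image_univ, (WithTopology.ofTopology_surjective _).range_eq] at h2

lemma isCompact_cons_of_isClosed {s : Set X} (hs : IsClosed[constructibleTopology X] s) :
    @IsCompact X (constructibleTopology X) s :=
  @IsClosed.isCompact X (constructibleTopology X) _ compactSpace_cons hs

lemma isClopen_cons_iff {s : Set X} :
    @IsClopen X (constructibleTopology X) s ↔ IsConstructible s := by
  refine ⟨fun ⟨hc, ho⟩ => ?_, isClopen_cons_of_isConstructible⟩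
  choose C hC hxC hCs using fun x (hx : x ∈ s) => exists_isConstructible_subset ho hx
  obtain ⟨t, ht⟩ := @IsCompact.elim_finite_subcover X (constructibleTopology X) s {x // x ∈ s}
    (isCompact_cons_of_isClosed hc) (fun x => C x.1 x.2)
    (fun x => (isClopen_cons_of_isConstructible (hC x.1 x.2)).2)
    (fun x hx => mem_iUnion.mpr ⟨⟨x, hx⟩, hxC x hx⟩)
  have : s = ⋃ x ∈ (t : Set {x // x ∈ s}), C x.1 x.2 :=
    subset_antisymm ht (iUnion₂_subset fun x _ => hCs x.1 x.2)
  rw [this]
  exact IsConstructible.biUnion t.finite_toSet fun x _ => hC x.1 x.2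

lemma isProConstructible_iff_isClosed_cons {E : Set X} :
    ProCons.IsProConstructible E ↔ IsClosed[constructibleTopology X] E := by
  refine ⟨fun h => ?_, fun h x => ?_⟩
  · have hloc : ∀ x, ∃ V : Set X, IsOpen V ∧ IsCompact V ∧ x ∈ V ∧
        IsClosed[constructibleTopology X] (E ∩ V) := by
      intro x
      obtain ⟨U, hU, hxU, S, hS, he⟩ := h x
      obtain ⟨V, ⟨hVo, hVc⟩, hxV, hVU⟩ :=
        PrespectralSpace.isTopologicalBasis.exists_subset_of_mem_open hxU hU
      have hC : ∀ T ∈ S, IsConstructible (Subtype.val '' T ∩ V) := fun T hT => by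
        have h1 : IsLocallyConstructible (inclusion hVU ⁻¹' T) :=
          (hS T hT).preimage_of_isOpenEmbedding (IsOpenEmbedding.id.restrict hVU hVo)
        have := isCompact_iff_compactSpace.mp hVc
        have : QuasiSeparatedSpace V := hVo.isOpenEmbedding_subtypeVal.quasiSeparatedSpace
        have : PrespectralSpace V := hVo.isOpenEmbedding_subtypeVal.prespectralSpace
        have h2 := h1.isConstructible.image_of_isOpenEmbedding hVo.isOpenEmbedding_subtypeVal
          (by simpa using hVc.isRetrocompact hVo)
        convert h2 using 1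
        ext y
        constructor
        · rintro ⟨⟨⟨y, hy⟩, hyT, rfl⟩, hyV⟩
          exact ⟨⟨y, hyV⟩, hyT, rfl⟩
        · rintro ⟨⟨y, hyV⟩, hyT, rfl⟩
          exact ⟨⟨⟨y, hVU hyV⟩, hyT, rfl⟩, hyV⟩
      refine ⟨V, hVo, hVc, hxV, ?_⟩
      have : E ∩ V = V ∩ ⋂ T ∈ S, Subtype.val '' T ∩ V ∪ Vᶜ := by
        ext y
        simp only [mem_inter_iff, mem_iInter, mem_union, mem_compl_iff, mem_image]
        constructor
        · rintro ⟨hyE, hyV⟩
          have h3 : (⟨y, hVU hyV⟩ : U) ∈ ⋂₀ S := he ▸ hyE
          exact ⟨hyV, fun T hT => Or.inl ⟨⟨_, h3 T hT, rfl⟩, hyV⟩⟩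
        · rintro ⟨hyV, hy⟩
          refine ⟨?_, hyV⟩
          have h3 : (⟨y, hVU hyV⟩ : U) ∈ ⋂₀ S := fun T hT => by
            rcases hy T hT with ⟨⟨z, hz, rfl⟩, -⟩ | h4
            · exact hz
            · exact absurd hyV h4
          rw [← he] at h3
          exact h3
      rw [this]
      exact @IsClosed.inter _ _ _ (constructibleTopology X)
        (isClopen_cons_of_isConstructible (hVc.isConstructible hVo)).1
        (@isClosed_biInter _ _ (constructibleTopology X) _ _ fun T hT =>
          (isClopen_cons_of_isConstructible ((hC T hT).union (hVc.isConstructible hVo).compl)).1)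
    choose V hVo hVc hxV hcl using hloc
    obtain ⟨t, ht⟩ := isCompact_univ.elim_finite_subcover V hVo (fun x _ => mem_iUnion.mpr ⟨x, hxV x⟩)
    have : E = ⋃ x ∈ (t : Set X), E ∩ V x := by
      refine subset_antisymm (fun y hy => ?_) (iUnion₂_subset fun _ _ => inter_subset_left)
      obtain ⟨x, hx, hyx⟩ := mem_iUnion₂.mp (ht (mem_univ y))
      exact mem_iUnion₂.mpr ⟨x, hx, hy, hyx⟩
    rw [this]
    exact @Set.Finite.isClosed_biUnion _ _ (constructibleTopology X) _ _ t.finite_toSet fun x _ => hcl x
  · refine ⟨univ, isOpen_univ, mem_univ _,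
      preimage Subtype.val '' {C | IsConstructible C ∧ E ⊆ C}, ?_, ?_⟩
    · rintro _ ⟨C, hC, rfl⟩
      exact hC.1.isLocallyConstructible.preimage_of_isOpenEmbedding isOpen_univ.isOpenEmbedding_subtypeVal
    · rw [sInter_image, ← preimage_iInter₂, ← sInter_eq_biInter, ← eq_sInter_of_isClosed_cons h]

lemma isIndConstructible_iff_isOpen_cons {E : Set X} :
    ProCons.IsIndConstructible E ↔ IsOpen[constructibleTopology X] E := by
  rw [← isProConstructible_compl_iff, isProConstructible_iff_isClosed_cons,
    @isClosed_compl_iff _ (constructibleTopology X)]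

/-- A point in the closure of a pro-constructible set is a specialization of one of its points. -/
lemma exists_specializes_of_mem_closure {F : Set X} (hF : IsClosed[constructibleTopology X] F) {x : X}
    (hx : x ∈ closure F) : ∃ y ∈ F, y ⤳ x := by
  by_contra! hne
  have h : ∀ y ∈ F, ∃ V : Set X, IsOpen V ∧ IsCompact V ∧ x ∈ V ∧ y ∉ V := fun y hy => by
    obtain ⟨U, hU, hxU, hyU⟩ := not_specializes_iff_exists_open.mp (hne y hy)
    obtain ⟨V, ⟨hV, hVc⟩, hxV, hVU⟩ :=
      PrespectralSpace.isTopologicalBasis.exists_subset_of_mem_open hxU hU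
    exact ⟨V, hV, hVc, hxV, fun h => hyU (hVU h)⟩
  choose V hVo hVc hxV hyV using h
  obtain ⟨t, ht⟩ := @IsCompact.elim_finite_subfamily_closed X (constructibleTopology X) F {y // y ∈ F}
    (isCompact_cons_of_isClosed hF) (fun y => V y.1 y.2)
    (fun y => (isClopen_cons_of_isConstructible ((hVc y.1 y.2).isConstructible (hVo y.1 y.2))).1)
    (eq_empty_of_forall_notMem fun z hz => hyV z hz.1 (mem_iInter.mp hz.2 ⟨z, hz.1⟩))
  obtain ⟨z, hz, hzF⟩ := mem_closure_iff.mp hx (⋂ y ∈ t, V y.1 y.2)
    (isOpen_biInter_finset fun y _ => hVo y.1 y.2) (mem_iInter₂.mpr fun y _ => hxV y.1 y.2)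
  exact (eq_empty_iff_forall_notMem.mp ht z) ⟨hzF, hz⟩

/-- The constructible topology of a spectral space is Hausdorff. -/
lemma t2Space_cons [T0Space X] : @T2Space X (constructibleTopology X) := by
  have key : ∀ a b : X, ¬ a ⤳ b →
      ∃ V : Set X, IsConstructible V ∧ b ∈ V ∧ a ∉ V := fun a b hab => by
    obtain ⟨U, hU, hbU, haU⟩ := not_specializes_iff_exists_open.mp hab
    obtain ⟨V, ⟨hV, hVc⟩, hbV, hVU⟩ :=
      PrespectralSpace.isTopologicalBasis.exists_subset_of_mem_open hbU hU
    exact ⟨V, hVc.isConstructible hV, hbV, fun h => haU (hVU h)⟩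
  refine @T2Space.mk X (constructibleTopology X) fun x y hxy => ?_
  by_cases h : x ⤳ y
  · obtain ⟨V, hV, hxV, hyV⟩ := key y x fun h' => hxy (h.antisymm h').eq
    exact ⟨V, Vᶜ, (isClopen_cons_of_isConstructible hV).2,
      (isClopen_cons_of_isConstructible hV.compl).2, hxV, hyV, disjoint_compl_right⟩
  · obtain ⟨V, hV, hyV, hxV⟩ := key x y h
    exact ⟨Vᶜ, V, (isClopen_cons_of_isConstructible hV.compl).2,
      (isClopen_cons_of_isConstructible hV).2, hxV, hyV, disjoint_compl_left⟩

end Spectral

end Groth.Agent.ProConsLib
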