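import Mathlib
import Groth.Prelude.Def_ProCons
import Groth.Agent.ProConsLib.Top

/-!
Pro- and ind-constructible subsets of schemes.
-/

set_option autoImplicit false

universe u

open AlgebraicGeometry CategoryTheory Topology Set

namespace Groth.Agent.ProConsLib

variable {X Y : Scheme.{u}}

/-- A set is pro-constructible iff its trace on every affine open is closed in the constructible topology. -/
lemma isProConstructible_iff_affine {E : Set X} :
    ProCons.IsProConstructible E ↔ ∀ U : X.Opens, IsAffineOpen U →
      IsClosed[constructibleTopology U.toScheme] (U.ι ⁻¹' E) := by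
  refine ⟨fun h U hU => ?_, fun h => isProConstructible_of_forall_exists fun x => ?_⟩
  · have : IsAffine U.toScheme := hU
    exact isProConstructible_iff_isClosed_cons.mp
      (isProConstructible_preimage_of_isOpenEmbedding U.ι.isOpenEmbedding h)
  · obtain ⟨U, hU, hxU, -⟩ := exists_isAffineOpen_mem_and_subset (X := X) (x := x) (U := ⊤) trivial
    have : IsAffine U.toScheme := hU
    exact ⟨U, U.2, hxU, (isProConstructible_iff_isClosed_cons (X := U.toScheme)).mpr (h U hU)⟩

/-- A set is ind-constructible iff its trace on every affine open is open in the constructible topology. -/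
lemma isIndConstructible_iff_affine {E : Set X} :
    ProCons.IsIndConstructible E ↔ ∀ U : X.Opens, IsAffineOpen U →
      IsOpen[constructibleTopology U.toScheme] (U.ι ⁻¹' E) := by
  rw [← isProConstructible_compl_iff, isProConstructible_iff_affine]
  refine forall₂_congr fun U _ => ?_
  rw [preimage_compl, @isClosed_compl_iff _ (constructibleTopology U.toScheme)]

/-- A set is locally constructible iff its trace on every affine open is constructible. -/
lemma isLocallyConstructible_iff_affine {E : Set X} :
    IsLocallyConstructible E ↔ ∀ U : X.Opens, IsAffineOpen U → IsConstructible (U.ι ⁻¹' E) := by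
  refine ⟨fun h U hU => ?_, fun h => ?_⟩
  · have : IsAffine U.toScheme := hU
    exact (h.preimage_of_isOpenEmbedding U.ι.isOpenEmbedding).isConstructible
  · refine IsLocallyConstructible.of_isOpenCover (U := fun U : X.affineOpens => U.1) ?_ fun U => ?_
    · exact iSup_affineOpens_eq_top X
    · exact (h U.1 U.2).isLocallyConstructible

/-- A set is locally constructible iff it is both ind- and pro-constructible. -/
lemma isLocallyConstructible_iff_ind_and_pro {E : Set X} :
    IsLocallyConstructible E ↔ ProCons.IsIndConstructible E ∧ ProCons.IsProConstructible E := by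
  rw [isLocallyConstructible_iff_affine, isIndConstructible_iff_affine, isProConstructible_iff_affine,
    ← forall₂_and]
  refine forall₂_congr fun U hU => ?_
  have : IsAffine U.toScheme := hU
  rw [← isClopen_cons_iff]
  exact ⟨fun h => ⟨h.2, h.1⟩, fun h => ⟨h.2, h.1⟩⟩

/-- Morphisms of qcqs schemes are continuous for the constructible topologies. -/
lemma continuous_cons_hom [CompactSpace X] [QuasiSeparatedSpace X] [CompactSpace Y] [QuasiSeparatedSpace Y]
    (f : X ⟶ Y) : Continuous[constructibleTopology X, constructibleTopology Y] f :=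
  continuous_cons fun _ hs => f.isConstructible_preimage hs

lemma resLE_apply (f : X ⟶ Y) (V : Y.Opens) (U : X.Opens) (e : U ≤ f ⁻¹ᵁ V) (x : U.toScheme) :
    V.ι (f.resLE V U e x) = f (U.ι x) := by
  rw [← Scheme.Hom.comp_apply, Scheme.Hom.resLE_comp_ι]
  rfl

/-- Preimages of pro-constructible sets are pro-constructible. -/
lemma isProConstructible_preimage (f : X ⟶ Y) {T : Set Y} (hT : ProCons.IsProConstructible T) :
    ProCons.IsProConstructible (f ⁻¹' T) := by
  refine isProConstructible_of_forall_exists fun x => ?_
  obtain ⟨V, hV, hxV, -⟩ := exists_isAffineOpen_mem_and_subset (X := Y) (x := f x) (U := ⊤) trivial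
  obtain ⟨U, hU, hxU, hUV⟩ := exists_isAffineOpen_mem_and_subset (X := X) (x := x) (U := f ⁻¹ᵁ V) hxV
  refine ⟨U, U.2, hxU, ?_⟩
  have : IsAffine U.toScheme := hU
  have : IsAffine V.toScheme := hV
  refine (isProConstructible_iff_isClosed_cons (X := U.toScheme)).mpr ?_
  have h2 := @IsClosed.preimage _ _ (constructibleTopology U.toScheme) (constructibleTopology V.toScheme)
    _ (continuous_cons_hom (f.resLE V U hUV)) _ (isProConstructible_iff_affine.mp hT V hV)
  have h3 : (f.resLE V U hUV) ⁻¹' (V.ι ⁻¹' T) = U.ι ⁻¹' (f ⁻¹' T) := by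
    ext z; simp [resLE_apply]
  rw [h3] at h2
  exact h2

/-- Preimages of ind-constructible sets are ind-constructible. -/
lemma isIndConstructible_preimage (f : X ⟶ Y) {T : Set Y} (hT : ProCons.IsIndConstructible T) :
    ProCons.IsIndConstructible (f ⁻¹' T) := by
  rw [← isProConstructible_compl_iff, ← preimage_compl]
  exact isProConstructible_preimage f (isProConstructible_compl_iff.mpr hT)

/-- Images of pro-constructible sets under quasi-compact morphisms are pro-constructible. -/
lemma isProConstructible_image (f : X ⟶ Y) [QuasiCompact f] {E : Set X}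
    (hE : ProCons.IsProConstructible E) : ProCons.IsProConstructible (f '' E) := by
  refine isProConstructible_iff_affine.mpr fun V hV => ?_
  have : IsAffine V.toScheme := hV
  have hc : IsCompact ((f ⁻¹ᵁ V : X.Opens) : Set X) :=
    QuasiCompact.isCompact_preimage _ V.2 hV.isCompact
  choose U hU hxU hUV using fun x : ↥(f ⁻¹ᵁ V : X.Opens) =>
    exists_isAffineOpen_mem_and_subset (X := X) (x := x.1) (U := f ⁻¹ᵁ V) x.2
  obtain ⟨t, ht⟩ := hc.elim_finite_subcover (fun x => (U x : Set X)) (fun x => (U x).2)
    (fun x hx => mem_iUnion.mpr ⟨⟨x, hx⟩, hxU _⟩)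
  have key : V.ι ⁻¹' (f '' E) =
      ⋃ x ∈ (t : Set _), (f.resLE V (U x) (hUV x)) '' ((U x).ι ⁻¹' E) := by
    ext v
    simp only [mem_preimage, mem_iUnion, mem_image]
    constructor
    · rintro ⟨e, he, hev⟩
      have hmem : e ∈ ((f ⁻¹ᵁ V : X.Opens) : Set X) := by
        show f e ∈ V
        rw [hev]; exact v.2
      obtain ⟨x, hx, hex⟩ := mem_iUnion₂.mp (ht hmem)
      refine ⟨x, hx, ⟨e, hex⟩, he, ?_⟩
      exact V.ι.isOpenEmbedding.injective (by rw [resLE_apply]; exact hev)
    · rintro ⟨x, hx, z, hz, rfl⟩
      exact ⟨_, hz, (resLE_apply f V _ _ z).symm⟩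
  rw [key]
  refine @Set.Finite.isClosed_biUnion _ _ (constructibleTopology V.toScheme) _ _ t.finite_toSet fun x _ => ?_
  have : IsAffine (U x).toScheme := hU x
  exact @IsCompact.isClosed V.toScheme (constructibleTopology V.toScheme) t2Space_cons _
    (@IsCompact.image _ _ (constructibleTopology (U x).toScheme) (constructibleTopology V.toScheme) _ _
      (isCompact_cons_of_isClosed (isProConstructible_iff_affine.mp hE _ (hU x)))
      (continuous_cons_hom _))

/-- Images of ind-constructible sets under morphisms locally of finite presentation are ind-constructible. -/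
lemma isIndConstructible_image (f : X ⟶ Y) [LocallyOfFinitePresentation f] {E : Set X}
    (hE : ProCons.IsIndConstructible E) : ProCons.IsIndConstructible (f '' E) := by
  refine isIndConstructible_iff_affine.mpr fun V hV => ?_
  have : IsAffine V.toScheme := hV
  refine (@isOpen_iff_forall_mem_open V.toScheme (constructibleTopology V.toScheme) _).mpr ?_
  rintro v ⟨e, he, hev⟩
  have hmem : e ∈ f ⁻¹ᵁ V := by
    show f e ∈ V
    rw [hev]; exact v.2
  obtain ⟨U, hU, heU, hUV⟩ := exists_isAffineOpen_mem_and_subset (X := X) (x := e) (U := f ⁻¹ᵁ V) hmem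
  have : IsAffine U.toScheme := hU
  obtain ⟨C, hC, heC, hCE⟩ := exists_isConstructible_subset (isIndConstructible_iff_affine.mp hE U hU)
    (show (⟨e, heU⟩ : U.toScheme) ∈ U.ι ⁻¹' E from he)
  refine ⟨f.resLE V U hUV '' C, ?_,
    (isClopen_cons_of_isConstructible ((f.resLE V U hUV).isConstructible_image hC)).2, ?_⟩
  · rintro _ ⟨z, hz, rfl⟩
    exact ⟨_, hCE hz, (resLE_apply f V _ _ z).symm⟩
  · exact ⟨⟨e, heU⟩, heC, V.ι.isOpenEmbedding.injective (by rw [resLE_apply]; exact hev)⟩

/-- A point in the closure of a pro-constructible set is a specialization of one of its points. -/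
lemma exists_specializes_of_mem_closure_sch {F : Set X} (hF : ProCons.IsProConstructible F) {x : X}
    (hx : x ∈ closure F) : ∃ y ∈ F, y ⤳ x := by
  obtain ⟨U, hU, hxU, -⟩ := exists_isAffineOpen_mem_and_subset (X := X) (x := x) (U := ⊤) trivial
  have : IsAffine U.toScheme := hU
  have h1 : (⟨x, hxU⟩ : U.toScheme) ∈ closure (U.ι ⁻¹' F) := by
    rw [← U.ι.isOpenEmbedding.isOpenMap.preimage_closure_eq_closure_preimage U.ι.continuous]
    exact hx
  obtain ⟨y, hy, hyx⟩ := exists_specializes_of_mem_closure (isProConstructible_iff_affine.mp hF U hU) h1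
  exact ⟨_, hy, hyx.map U.ι.continuous⟩

/-- An ind-constructible set is a neighbourhood of a point iff it contains all its generizations. -/
lemma mem_interior_iff_forall_specializes {E : Set X} (hE : ProCons.IsIndConstructible E) (x : X) :
    x ∈ interior E ↔ ∀ x', x' ⤳ x → x' ∈ E := by
  refine ⟨fun h x' hx' => interior_subset (hx'.mem_open isOpen_interior h), fun h => ?_⟩
  by_contra hx
  rw [← mem_compl_iff, ← closure_compl] at hx
  obtain ⟨y, hy, hyx⟩ := exists_specializes_of_mem_closure_sch (isProConstructible_compl_iff.mpr hE) hx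
  exact hy (h y hyx)

lemma singleton_isProConstructible_of_affine [IsAffine X] (x : X) :
    IsClosed[constructibleTopology X] ({x} : Set X) :=
  @isClosed_singleton X (constructibleTopology X) (@T2Space.t1Space X (constructibleTopology X) t2Space_cons) x

lemma singleton_isProConstructible (x : X) : ProCons.IsProConstructible ({x} : Set X) := by
  refine isProConstructible_iff_affine.mpr fun U hU => ?_
  have : IsAffine U.toScheme := hU
  by_cases h : x ∈ U
  · convert singleton_isProConstructible_of_affine (X := U.toScheme) ⟨x, h⟩ using 1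
    ext z
    exact ⟨fun hz => U.ι.isOpenEmbedding.injective hz, fun hz => by rw [mem_singleton_iff.mp hz]; rfl⟩
  · convert @isClosed_empty _ (constructibleTopology U.toScheme) using 1
    exact eq_empty_of_forall_notMem fun z hz => h (mem_singleton_iff.mp hz ▸ z.2)

/-- Locally constructible images of quasi-compact open subsets. -/
lemma exists_finset_inter_subset [CompactSpace X] {E : Set X} (hE : ProCons.IsIndConstructible E)
    {ι : Type*} (F : ι → Set X) (hF : ∀ i, ProCons.IsProConstructible (F i)) (h : ⋂ i, F i ⊆ E) :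
    ∃ J : Finset ι, ⋂ i ∈ J, F i ⊆ E := by
  classical
  choose U hU hxU _h using fun x : X =>
    exists_isAffineOpen_mem_and_subset (X := X) (x := x) (U := ⊤) trivial
  obtain ⟨t, ht⟩ := isCompact_univ.elim_finite_subcover (fun x => (U x : Set X)) (fun x => (U x).2)
    (fun x _ => mem_iUnion.mpr ⟨x, hxU x⟩)
  have hloc : ∀ x, ∃ J : Finset ι, ∀ z : (U x).toScheme,
      (∀ i ∈ J, (U x).ι z ∈ F i) → (U x).ι z ∈ E := by
    intro x
    have : IsAffine (U x).toScheme := hU x
    obtain ⟨J, hJ⟩ := @IsCompact.elim_finite_subfamily_closed (U x).toScheme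
      (constructibleTopology (U x).toScheme) ((U x).ι ⁻¹' E)ᶜ ι
      (isCompact_cons_of_isClosed (@IsOpen.isClosed_compl _ (constructibleTopology (U x).toScheme) _
        (isIndConstructible_iff_affine.mp hE _ (hU x))))
      (fun i => (U x).ι ⁻¹' F i) (fun i => isProConstructible_iff_affine.mp (hF i) _ (hU x))
      (eq_empty_of_forall_notMem fun z hz => hz.1 (h (mem_iInter.mpr fun i => mem_iInter.mp hz.2 i)))
    exact ⟨J, fun z hz => by_contra fun hzE =>
      (eq_empty_iff_forall_notMem.mp hJ z) ⟨hzE, mem_iInter₂.mpr hz⟩⟩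
  choose J hJ using hloc
  refine ⟨t.biUnion J, fun y hy => ?_⟩
  obtain ⟨x, hx, hyx⟩ := mem_iUnion₂.mp (ht (mem_univ y))
  exact hJ x ⟨y, hyx⟩ fun i hi => mem_iInter₂.mp hy i (Finset.mem_biUnion.mpr ⟨x, hx, hi⟩)

end Groth.Agent.ProConsLib
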