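import Mathlib
import Groth.Prelude.Def_ProCons
import Groth.Agent.ProConsLib.Sch

/-!
Pro-constructible sets as images of affine schemes.
-/

set_option autoImplicit false

universe u

open AlgebraicGeometry CategoryTheory Limits Topology Set

namespace Groth.Agent.ProConsLib

/-- A subset closed in the constructible topology of `Spec R` is the image of the spectrum of the product
of its residue fields. -/
lemma range_comap_pi_residueField {R : Type u} [CommRing R] {E : Set (PrimeSpectrum R)}
    (hE : IsClosed[constructibleTopology (PrimeSpectrum R)] E) :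
    Set.range (PrimeSpectrum.comap (Pi.ringHom fun x : E => algebraMap R x.1.asIdeal.ResidueField)) = E := by
  classical
  refine subset_antisymm ?_ fun p hp => ?_
  · rintro _ ⟨q, rfl⟩
    by_contra hq
    obtain ⟨C, hC, hqC, hCE⟩ :=
      exists_isConstructible_subset (@IsClosed.isOpen_compl _ (constructibleTopology _) _ hE) hq
    obtain ⟨S, rfl⟩ := PrimeSpectrum.exists_constructibleSetData_iff.mpr hC
    simp only [PrimeSpectrum.ConstructibleSetData.toSet, mem_iUnion] at hqC
    obtain ⟨D, hD, hqD⟩ := hqC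
    obtain ⟨hqg, hqf⟩ := hqD
    set φ := Pi.ringHom fun x : E => algebraMap R x.1.asIdeal.ResidueField with hφ
    rw [PrimeSpectrum.mem_zeroLocus, range_subset_iff] at hqg
    rw [PrimeSpectrum.mem_zeroLocus, singleton_subset_iff] at hqf
    let e : Fin D.n → ∀ x : E, x.1.asIdeal.ResidueField := fun k => φ (D.g k) * fun x => (φ (D.g k) x)⁻¹
    have he : ∀ k, e k ∈ q.asIdeal := fun k => Ideal.mul_mem_right _ _ (hqg k)
    have h1 : ∀ k, 1 - e k ∉ q.asIdeal := fun k h => q.2.ne_top
      ((Ideal.eq_top_iff_one _).mpr (by simpa using q.asIdeal.add_mem h (he k)))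
    have h0 : φ D.f * ∏ k, (1 - e k) = 0 := by
      funext x
      rw [Pi.mul_apply, Finset.prod_apply, Pi.zero_apply]
      by_cases hf : D.f ∈ x.1.asIdeal
      · have : φ D.f x = 0 := by
          show algebraMap R x.1.asIdeal.ResidueField D.f = 0
          rwa [Ideal.algebraMap_residueField_eq_zero]
        rw [this, zero_mul]
      · have hxD : x.1 ∉ D.toSet := fun h => hCE (mem_biUnion hD h) x.2
        obtain ⟨k, hk⟩ : ∃ k, D.g k ∉ x.1.asIdeal := by
          by_contra! hall
          exact hxD ⟨by rw [PrimeSpectrum.mem_zeroLocus, range_subset_iff]; exact hall,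
            by rw [PrimeSpectrum.mem_zeroLocus, singleton_subset_iff]; exact hf⟩
        have hne : φ (D.g k) x ≠ 0 := by
          show algebraMap R x.1.asIdeal.ResidueField (D.g k) ≠ 0
          rwa [Ne, Ideal.algebraMap_residueField_eq_zero]
        rw [Finset.prod_eq_zero (Finset.mem_univ k) (by simp [e, mul_inv_cancel₀ hne]), mul_zero]
    rcases q.2.mem_or_mem (show φ D.f * ∏ k, (1 - e k) ∈ q.asIdeal by rw [h0]; exact q.asIdeal.zero_mem) with h | h
    · exact hqf h
    · obtain ⟨k, -, hk⟩ := q.2.prod_mem_iff.mp h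
      exact h1 k hk
  · refine ⟨⟨RingHom.ker (Pi.evalRingHom (fun x : E => x.1.asIdeal.ResidueField) ⟨p, hp⟩),
      RingHom.ker_isPrime _⟩, ?_⟩
    ext r
    show algebraMap R p.asIdeal.ResidueField r = 0 ↔ r ∈ p.asIdeal
    exact Ideal.algebraMap_residueField_eq_zero

/-- The image of a morphism out of a finite disjoint union. -/
lemma range_sigmaDesc {X : Scheme.{u}} {ι : Type u} {Z : ι → Scheme.{u}} (g : ∀ i, Z i ⟶ X) :
    Set.range (Sigma.desc g) = ⋃ i, Set.range (g i) := by
  refine subset_antisymm ?_ (iUnion_subset fun i => ?_)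
  · rintro _ ⟨z, rfl⟩
    obtain ⟨⟨i, x⟩, rfl⟩ := (sigmaMk Z).surjective z
    refine mem_iUnion.mpr ⟨i, x, ?_⟩
    rw [sigmaMk_mk, ← Scheme.Hom.comp_apply, Sigma.ι_desc]
  · rintro _ ⟨x, rfl⟩
    exact ⟨Sigma.ι Z i x, by rw [← Scheme.Hom.comp_apply, Sigma.ι_desc]⟩

/-- A finite affine open cover. -/
lemma exists_finite_affine_cover (X : Scheme.{u}) [CompactSpace X] :
    ∃ (ι : Type u) (_ : Finite ι) (U : ι → X.Opens), (∀ i, IsAffineOpen (U i)) ∧ ∀ x, ∃ i, x ∈ U i := by
  choose U hU hxU _h using fun x : X =>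
    exists_isAffineOpen_mem_and_subset (X := X) (x := x) (U := ⊤) trivial
  obtain ⟨t, ht⟩ := isCompact_univ.elim_finite_subcover (fun x => (U x : Set X)) (fun x => (U x).2)
    (fun x _ => mem_iUnion.mpr ⟨x, hxU x⟩)
  refine ⟨{x // x ∈ t}, inferInstance, fun i => U i.1, fun i => hU i.1, fun y => ?_⟩
  obtain ⟨x, hx, hyx⟩ := mem_iUnion₂.mp (ht (mem_univ y))
  exact ⟨⟨x, hx⟩, hyx⟩

/-- A pro-constructible subset of a quasi-compact scheme is the image of an affine scheme. -/
lemma exists_range_eq_of_isProConstructible (X : Scheme.{u}) [CompactSpace X] {E : Set X}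
    (hE : ProCons.IsProConstructible E) :
    ∃ (X' : Scheme.{u}) (f : X' ⟶ X), IsAffine X' ∧ Set.range f.base = E := by
  obtain ⟨ι, _, U, hU, hcov⟩ := exists_finite_affine_cover X
  have hcl : ∀ i, IsClosed[constructibleTopology (Spec Γ(X, U i))] ((hU i).fromSpec ⁻¹' E) := fun i =>
    isProConstructible_iff_isClosed_cons.mp (isProConstructible_preimage (hU i).fromSpec hE)
  let A : ι → CommRingCat.{u} := fun i =>
    CommRingCat.of (∀ x : ↥((hU i).fromSpec ⁻¹' E : Set (PrimeSpectrum Γ(X, U i))), x.1.asIdeal.ResidueField)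
  let φ : ∀ i, Γ(X, U i) ⟶ A i := fun i => CommRingCat.ofHom
    (Pi.ringHom fun x : ↥((hU i).fromSpec ⁻¹' E : Set (PrimeSpectrum Γ(X, U i))) =>
      algebraMap Γ(X, U i) x.1.asIdeal.ResidueField)
  have hrange : ∀ i, Set.range (Spec.map (φ i)) = (hU i).fromSpec ⁻¹' E := fun i =>
    range_comap_pi_residueField (hcl i)
  refine ⟨∐ fun i => Spec (A i), Sigma.desc fun i => Spec.map (φ i) ≫ (hU i).fromSpec,
    inferInstance, ?_⟩
  rw [range_sigmaDesc]
  have : ∀ i, Set.range (Spec.map (φ i) ≫ (hU i).fromSpec) = E ∩ (U i : Set X) := fun i => by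
    rw [Scheme.Hom.comp_base, TopCat.coe_comp, range_comp, hrange i, image_preimage_eq_inter_range,
      (hU i).range_fromSpec]
  simp only [this]
  ext x
  exact ⟨fun h => (mem_iUnion.mp h).elim fun _ h => h.1, fun h => mem_iUnion.mpr ((hcov x).imp fun _ hi => ⟨h, hi⟩)⟩

/-- A constructible subset of a qcqs scheme is the image of an affine scheme of finite presentation. -/
lemma exists_range_eq_of_isConstructible (X : Scheme.{u}) [CompactSpace X] [QuasiSeparatedSpace X]
    {E : Set X} (hE : IsConstructible E) :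
    ∃ (X' : Scheme.{u}) (f : X' ⟶ X), IsAffine X' ∧ LocallyOfFinitePresentation f ∧ Set.range f.base = E := by
  obtain ⟨ι, _, U, hU, hcov⟩ := exists_finite_affine_cover X
  choose S hS using fun i =>
    PrimeSpectrum.exists_constructibleSetData_iff.mpr ((hU i).fromSpec.isConstructible_preimage hE)
  let J := Σ i, {C // C ∈ S i}
  let R : J → CommRingCat.{u} := fun j => Γ(X, U j.1)
  let I : ∀ j : J, Ideal (R j) := fun j => Ideal.span (Set.range j.2.1.g)
  let A : J → CommRingCat.{u} := fun j =>
    CommRingCat.of (Localization.Away (Ideal.Quotient.mk (I j) j.2.1.f))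
  let φ : ∀ j, R j ⟶ A j := fun j => CommRingCat.ofHom
    ((algebraMap (R j ⧸ I j) (Localization.Away (Ideal.Quotient.mk (I j) j.2.1.f))).comp (Ideal.Quotient.mk (I j)))
  have hfp : ∀ j, LocallyOfFinitePresentation (Spec.map (φ j) ≫ (hU j.1).fromSpec) := fun j => by
    have h1 : (φ j).hom.FinitePresentation := by
      refine RingHom.FinitePresentation.comp ?_
        (RingHom.FinitePresentation.of_surjective _ Ideal.Quotient.mk_surjective
          (by rw [Ideal.mk_ker]; exact Submodule.fg_span (Set.finite_range _)))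
      rw [RingHom.finitePresentation_algebraMap]
      exact IsLocalization.Away.finitePresentation (Ideal.Quotient.mk (I j) j.2.1.f)
    have : LocallyOfFinitePresentation (Spec.map (φ j)) :=
      (HasRingHomProperty.Spec_iff (P := @LocallyOfFinitePresentation)).mpr h1
    infer_instance
  have hrange : ∀ j, Set.range (Spec.map (φ j) ≫ (hU j.1).fromSpec) = (hU j.1).fromSpec '' j.2.1.toSet :=
    fun j => by
    rw [Scheme.Hom.comp_base, TopCat.coe_comp, range_comp]
    congr 1
    show Set.range (PrimeSpectrum.comap (φ j).hom) = _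
    trans PrimeSpectrum.comap (Ideal.Quotient.mk (I j)) '' Set.range (PrimeSpectrum.comap
      (algebraMap (R j ⧸ I j) (Localization.Away (Ideal.Quotient.mk (I j) j.2.1.f))))
    · rw [← Set.range_comp]; rfl
    · rw [PrimeSpectrum.localization_away_comap_range _ (Ideal.Quotient.mk (I j) j.2.1.f),
        ← PrimeSpectrum.comap_basicOpen, TopologicalSpace.Opens.coe_comap,
        ContinuousMap.coe_mk, Set.image_preimage_eq_inter_range,
        range_comap_of_surjective _ _ Ideal.Quotient.mk_surjective,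
        PrimeSpectrum.BasicConstructibleSetData.toSet, Set.sdiff_eq_compl_inter,
        PrimeSpectrum.basicOpen_eq_zeroLocus_compl, Ideal.mk_ker, PrimeSpectrum.zeroLocus_span]
  refine ⟨∐ fun j => Spec (A j), Sigma.desc fun j => Spec.map (φ j) ≫ (hU j.1).fromSpec,
    inferInstance, IsZariskiLocalAtSource.sigmaDesc hfp, ?_⟩
  rw [range_sigmaDesc]
  simp only [hrange]
  ext x
  simp only [mem_iUnion, mem_image]
  constructor
  · rintro ⟨⟨i, C, hC⟩, z, hz, rfl⟩
    have : z ∈ (hU i).fromSpec ⁻¹' E := by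
      rw [← hS i]; exact mem_biUnion hC hz
    exact this
  · intro hx
    obtain ⟨i, hi⟩ := hcov x
    obtain ⟨z, rfl⟩ : x ∈ Set.range (hU i).fromSpec := by rw [(hU i).range_fromSpec]; exact hi
    have hz : z ∈ (S i).toSet := by rw [hS i]; exact hx
    obtain ⟨C, hC, hz⟩ : ∃ C ∈ S i, z ∈ C.toSet := by
      obtain ⟨C, hC, hzC⟩ := Set.mem_iUnion₂.mp hz
      exact ⟨C, hC, hzC⟩
    exact ⟨⟨i, C, hC⟩, z, hz, rfl⟩

end Groth.Agent.ProConsLib
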